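import Groth.Agent.SitesTopoi.Coherent.Acyclic
import Groth.Agent.Misc7.GSS.LocalToGlobal

/-!
Cohomology and filtered colimits in algebraic topoi.
-/

universe u

open CategoryTheory CategoryTheory.Limits Opposite ToposFin

set_option synthInstance.maxHeartbeats 400000
set_option maxHeartbeats 1000000

namespace Groth.SitesTopoi.Coherent

open Groth.SitesTopoi.Topos Groth.SiteCohomology CategoryTheory.Abelian

variable {C : Type u} [SmallCategory C] {J : GrothendieckTopology C}
  {Λ : Type u} [SmallCategory Λ] [IsFiltered Λ]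

/-- In an algebraic topos the coherent objects form a generating class of quasi-compact objects
stable under fibre products. -/
lemma coherent_class (hE : IsAlgebraic J) :
    (∀ K ∈ {K : Tp J | IsCoherent K}, IsQC K) ∧ GenBy J (fun K => K ∈ {K : Tp J | IsCoherent K}) ∧
      ClosedUnderPullbacks {K : Tp J | IsCoherent K} := by
  have hE' := hE
  obtain ⟨S, hqc, hgen, hpb, -⟩ := hE
  refine ⟨fun K hK => hK.1, (genBy_of_isGenerating hgen).mono
    (fun K hK => ⟨hqc K hK, isQS_of_mem hqc (genBy_of_isGenerating hgen) hpb hK⟩), fun K L M f g hK hL hM => ?_⟩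
  refine ⟨pullback f g, pullback.fst f g, pullback.snd f g, ⟨hM.2 K L f g hK.1 hL.1, ?_⟩,
    IsPullback.of_hasPullback f g⟩
  exact isQS_of_isQSHom (isQSHom_of_isPullback (IsPullback.of_hasPullback f g).flip
    ((isQS_iff_isQSHom_of_algebraic hE' g hM.2).1 hL.2)) hK.2

/-- `H^q(K, -)` commutes with filtered colimits for coherent `K`. -/
theorem extOK_coherent (hE : IsAlgebraic J) {K : Tp J} (hK : IsCoherent K)
    (D : Λ ⥤ Sheaf J AddCommGrpCat.{u}) (q : ℕ) : ExtColim.ExtOK ((freeT J).obj K) D q :=
  have h := coherent_class hE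
  extOK_free D h.1 h.2.1 h.2.2 (S := {K : Tp J | IsCoherent K}) hK q

/-- Preservation form. -/
theorem preserves_HK (hE : IsAlgebraic J) {K : Tp J} (hK : IsCoherent K) (q : ℕ) :
    PreservesColimitsOfShape Λ ((extFunctor.{u} q).obj (op ((freeT J).obj K))) :=
  ExtColim.preservesColimitsOfShape fun D => extOK_coherent hE hK D q

/-- The free sheaf on the final object is the constant sheaf. -/
noncomputable def freeTopIso :
    (freeT J).obj (⊤_ (Tp J)) ≅ (constantSheaf J AddCommGrpCat.{u}).obj (AddCommGrpCat.of (ULift.{u} ℤ)) :=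
  (freeT J).mapIso (terminalIsTerminal.uniqueUpToIso
      (IsTerminal.ofUniqueHom (Y := (⟨Misc7.GSS.onePsh C, Misc7.GSS.isSheaf_onePsh⟩ : Tp J))
        (fun P => ⟨{ app := fun _ => TypeCat.ofHom fun _ => PUnit.unit }⟩)
        (fun P m => by ext V x; rfl))) ≪≫
    Misc7.GSS.freeShOneIso

end Groth.SitesTopoi.Coherent
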