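import Mathlib.CategoryTheory.Abelian.GrothendieckCategory.EnoughInjectives
import Mathlib.CategoryTheory.Abelian.GrothendieckCategory.Basic
import Mathlib.Algebra.Homology.DerivedCategory.Ext.ExactSequences
import Mathlib.Algebra.Homology.DerivedCategory.Ext.ExtClass
import Mathlib.Algebra.Homology.DerivedCategory.Ext.EnoughInjectives
import Mathlib.Algebra.Homology.ShortComplex.ExactFunctor
import Mathlib.CategoryTheory.Limits.Types.Filtered
import Mathlib.Algebra.Category.Grp.FilteredColimits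
import Mathlib.Algebra.Category.Grp.Colimits

/-!
`Ext` out of an object and filtered colimits.
-/

universe u

open CategoryTheory CategoryTheory.Limits Opposite

namespace Groth.SitesTopoi.ExtColim

open Abelian

variable {C : Type (u + 1)} [Category.{u} C] [Abelian C] [HasExt.{u} C]
  {Λ : Type u} [SmallCategory Λ] [IsFiltered Λ] [HasColimitsOfShape Λ C]

/-- `Ext^q(X, -)` commutes with the colimit of `D`, elementwise. -/
def ExtOK (X : C) (D : Λ ⥤ C) (q : ℕ) : Prop :=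
  (∀ x : Ext X (colimit D) q, ∃ (i : Λ) (y : Ext X (D.obj i) q),
    y.comp (Ext.mk₀ (colimit.ι D i)) (add_zero q) = x) ∧
  ∀ (i : Λ) (y : Ext X (D.obj i) q), y.comp (Ext.mk₀ (colimit.ι D i)) (add_zero q) = 0 →
    ∃ (j : Λ) (r : i ⟶ j), y.comp (Ext.mk₀ (D.map r)) (add_zero q) = 0

lemma extOK_zero {X : C} {D : Λ ⥤ C}
    (h₁ : ∀ φ : X ⟶ colimit D, ∃ (i : Λ) (a : X ⟶ D.obj i), a ≫ colimit.ι D i = φ)
    (h₂ : ∀ (i : Λ) (a : X ⟶ D.obj i), a ≫ colimit.ι D i = 0 → ∃ (j : Λ) (r : i ⟶ j), a ≫ D.map r = 0) :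
    ExtOK X D 0 := by
  refine ⟨fun x => ?_, fun i y hy => ?_⟩
  · obtain ⟨φ, rfl⟩ := (Ext.mk₀_bijective _ _).2 x
    obtain ⟨i, a, ha⟩ := h₁ φ
    exact ⟨i, Ext.mk₀ a, by rw [Ext.mk₀_comp_mk₀, ha]⟩
  · obtain ⟨a, rfl⟩ := (Ext.mk₀_bijective _ _).2 y
    rw [Ext.mk₀_comp_mk₀, ← Ext.mk₀_zero] at hy
    obtain ⟨j, r, hr⟩ := h₂ i a ((Ext.mk₀_bijective _ _).1 hy)
    exact ⟨j, r, by rw [Ext.mk₀_comp_mk₀, hr, Ext.mk₀_zero]⟩

/-- Composition of degree zero classes in the second variable. -/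
lemma comp_mk₀_mk₀ {X A B E : C} {q : ℕ} (y : Ext X A q) (f : A ⟶ B) (g : B ⟶ E) :
    (y.comp (Ext.mk₀ f) (add_zero q)).comp (Ext.mk₀ g) (add_zero q) =
      y.comp (Ext.mk₀ (f ≫ g)) (add_zero q) := by
  rw [Ext.comp_assoc_of_third_deg_zero, Ext.mk₀_comp_mk₀]

lemma sub_comp' {X A B : C} {q : ℕ} (y z : Ext X A q) (f : A ⟶ B) :
    (y - z).comp (Ext.mk₀ f) (add_zero q) =
      y.comp (Ext.mk₀ f) (add_zero q) - z.comp (Ext.mk₀ f) (add_zero q) :=
  ((Ext.mk₀ f).postcomp X (add_zero q)).map_sub y z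

lemma comp_sub' {X A B : C} {q : ℕ} (f : X ⟶ A) (y z : Ext A B q) :
    (Ext.mk₀ f).comp (y - z) (zero_add q) =
      (Ext.mk₀ f).comp y (zero_add q) - (Ext.mk₀ f).comp z (zero_add q) :=
  ((Ext.mk₀ f).precomp B (zero_add q)).map_sub y z

/-- Naturality of the connecting map in the second variable. -/
lemma push_extClass {S₁ S₂ : ShortComplex C} (h₁ : S₁.ShortExact) (h₂ : S₂.ShortExact) (φ : S₁ ⟶ S₂)
    {X : C} {q : ℕ} (y : Ext X S₁.X₃ q) :
    (y.comp h₁.extClass rfl).comp (Ext.mk₀ φ.τ₁) (add_zero (q + 1)) =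
      (y.comp (Ext.mk₀ φ.τ₃) (add_zero q)).comp h₂.extClass rfl := by
  rw [Ext.comp_assoc_of_third_deg_zero, ShortComplex.ShortExact.extClass_naturality h₁ h₂ φ,
    ← Ext.comp_assoc_of_second_deg_zero]

lemma ExtOK.stages {X : C} {D : Λ ⥤ C} {q : ℕ} (h : ExtOK X D q) {i : Λ} (y z : Ext X (D.obj i) q)
    (e : y.comp (Ext.mk₀ (colimit.ι D i)) (add_zero q) = z.comp (Ext.mk₀ (colimit.ι D i)) (add_zero q)) :
    ∃ (j : Λ) (r : i ⟶ j), y.comp (Ext.mk₀ (D.map r)) (add_zero q) =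
      z.comp (Ext.mk₀ (D.map r)) (add_zero q) := by
  obtain ⟨j, r, hr⟩ := h.2 i (y - z) (by rw [sub_comp', e, sub_self])
  exact ⟨j, r, by rwa [sub_comp', sub_eq_zero] at hr⟩

/-- Elementwise commutation gives preservation of colimits. -/
lemma preservesColimitsOfShape {X : C} {q : ℕ} (h : ∀ D : Λ ⥤ C, ExtOK X D q) :
    PreservesColimitsOfShape Λ ((extFunctor.{u} q).obj (op X)) where
  preservesColimit {D} := by
    haveI : ReflectsColimitsOfShape Λ (forget AddCommGrpCat.{u}) :=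
      reflectsColimitsOfShape_of_reflectsIsomorphisms
    refine preservesColimit_of_preserves_colimit_cocone (colimit.isColimit D)
      (isColimitOfReflects (forget AddCommGrpCat.{u}) ?_)
    refine Types.FilteredColimit.isColimitOf' _ _ (fun x => ?_) (fun i x y e => ?_)
    · obtain ⟨i, y, hy⟩ := (h D).1 x
      exact ⟨i, y, hy.symm⟩
    · exact (h D).stages x y e

/-- The last term of a short exact sequence in the first variable. -/
lemma extOK_of_shortExact {S : ShortComplex C} (hS : S.ShortExact) {D : Λ ⥤ C}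
    (h₁ : ∀ q, ExtOK S.X₁ D q) (h₂ : ∀ q, ExtOK S.X₂ D q) : ∀ q, ExtOK S.X₃ D q
  | 0 => by
    have := hS.epi_g
    refine ⟨fun x => ?_, fun i y hy => ?_⟩
    · obtain ⟨i, a, ha⟩ := (h₂ 0).1 ((Ext.mk₀ S.g).comp x (zero_add 0))
      obtain ⟨j, r, hr⟩ := (h₁ 0).2 i ((Ext.mk₀ S.f).comp a (zero_add 0)) (by
        rw [Ext.comp_assoc_of_third_deg_zero, ha, Ext.mk₀_comp_mk₀_assoc, S.zero, Ext.mk₀_zero,
          Ext.zero_comp])
      obtain ⟨b, hb⟩ := Ext.contravariant_sequence_exact₂ hS _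
        (a.comp (Ext.mk₀ (D.map r)) (add_zero 0))
        (by rw [← Ext.comp_assoc_of_third_deg_zero, hr])
      refine ⟨j, b, ?_⟩
      have key : (Ext.mk₀ S.g).comp (b.comp (Ext.mk₀ (colimit.ι D j)) (add_zero 0)) (zero_add 0) =
          (Ext.mk₀ S.g).comp x (zero_add 0) := by
        rw [← Ext.comp_assoc_of_third_deg_zero, hb, comp_mk₀_mk₀, colimit.w, ha]
      obtain ⟨v, rfl⟩ := (Ext.mk₀_bijective _ _).2 x
      obtain ⟨w, hw⟩ := (Ext.mk₀_bijective _ _).2 (b.comp (Ext.mk₀ (colimit.ι D j)) (add_zero 0))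
      rw [← hw, Ext.mk₀_comp_mk₀, Ext.mk₀_comp_mk₀] at key
      rw [← hw, (cancel_epi S.g).1 ((Ext.mk₀_bijective _ _).1 key)]
    · obtain ⟨j, r, hr⟩ := (h₂ 0).2 i ((Ext.mk₀ S.g).comp y (zero_add 0))
        (by rw [Ext.comp_assoc_of_third_deg_zero, hy, Ext.comp_zero])
      refine ⟨j, r, ?_⟩
      obtain ⟨v, hv⟩ := (Ext.mk₀_bijective _ _).2 (y.comp (Ext.mk₀ (D.map r)) (add_zero 0))
      rw [Ext.comp_assoc_of_third_deg_zero, ← hv, Ext.mk₀_comp_mk₀, ← Ext.mk₀_zero] at hr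
      have hr' : S.g ≫ v = S.g ≫ 0 := by rw [(Ext.mk₀_bijective _ _).1 hr, comp_zero]
      rw [← hv, (cancel_epi S.g).1 hr', Ext.mk₀_zero]
  | q + 1 => by
    refine ⟨fun x => ?_, fun i y hy => ?_⟩
    · obtain ⟨i, a, ha⟩ := (h₂ (q + 1)).1 ((Ext.mk₀ S.g).comp x (zero_add _))
      obtain ⟨j, r, hr⟩ := (h₁ (q + 1)).2 i ((Ext.mk₀ S.f).comp a (zero_add _)) (by
        rw [Ext.comp_assoc_of_third_deg_zero, ha, Ext.mk₀_comp_mk₀_assoc, S.zero, Ext.mk₀_zero,
          Ext.zero_comp])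
      obtain ⟨b, hb⟩ := Ext.contravariant_sequence_exact₂ hS _
        (a.comp (Ext.mk₀ (D.map r)) (add_zero _))
        (by rw [← Ext.comp_assoc_of_third_deg_zero, hr])
      obtain ⟨w, hw⟩ := Ext.contravariant_sequence_exact₃ hS _
        (x - b.comp (Ext.mk₀ (colimit.ι D j)) (add_zero _)) (by
          rw [comp_sub', ← Ext.comp_assoc_of_third_deg_zero, hb, comp_mk₀_mk₀, colimit.w, ha,
            sub_self]) (show 1 + q = q + 1 from Nat.add_comm 1 q)
      obtain ⟨k, c, hc⟩ := (h₁ q).1 w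
      refine ⟨IsFiltered.max j k, b.comp (Ext.mk₀ (D.map (IsFiltered.leftToMax j k))) (add_zero _) +
        (hS.extClass.comp c (show 1 + q = q + 1 from Nat.add_comm 1 q)).comp
          (Ext.mk₀ (D.map (IsFiltered.rightToMax j k))) (add_zero _), ?_⟩
      rw [Ext.add_comp, comp_mk₀_mk₀, comp_mk₀_mk₀, colimit.w, colimit.w,
        Ext.comp_assoc_of_third_deg_zero, hc, hw, add_sub_cancel]
    · obtain ⟨j, r, hr⟩ := (h₂ (q + 1)).2 i ((Ext.mk₀ S.g).comp y (zero_add _))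
        (by rw [Ext.comp_assoc_of_third_deg_zero, hy, Ext.comp_zero])
      rw [Ext.comp_assoc_of_third_deg_zero] at hr
      obtain ⟨c, hc⟩ := Ext.contravariant_sequence_exact₃ hS _
        (y.comp (Ext.mk₀ (D.map r)) (add_zero _)) hr (show 1 + q = q + 1 from Nat.add_comm 1 q)
      obtain ⟨e, he⟩ := Ext.contravariant_sequence_exact₁ hS _
        (c.comp (Ext.mk₀ (colimit.ι D j)) (add_zero _)) (show 1 + q = q + 1 from Nat.add_comm 1 q) (by
          rw [← Ext.comp_assoc_of_third_deg_zero, hc, comp_mk₀_mk₀, colimit.w, hy])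
      obtain ⟨k, e', he'⟩ := (h₂ q).1 e
      obtain ⟨l, s, hs⟩ := (h₁ q).stages
        (c.comp (Ext.mk₀ (D.map (IsFiltered.leftToMax j k))) (add_zero _))
        (((Ext.mk₀ S.f).comp e' (zero_add _)).comp (Ext.mk₀ (D.map (IsFiltered.rightToMax j k))) (add_zero _))
        (by rw [comp_mk₀_mk₀, comp_mk₀_mk₀, colimit.w, colimit.w, Ext.comp_assoc_of_third_deg_zero,
          he', he])
      refine ⟨l, r ≫ IsFiltered.leftToMax j k ≫ s, ?_⟩
      rw [D.map_comp, ← comp_mk₀_mk₀, ← hc, Ext.comp_assoc_of_third_deg_zero]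
      rw [comp_mk₀_mk₀, ← D.map_comp] at hs
      rw [hs, comp_mk₀_mk₀, Ext.comp_assoc_of_third_deg_zero, ← Ext.comp_assoc_of_second_deg_zero,
        hS.extClass_comp, Ext.zero_comp]

section Grothendieck

variable [IsGrothendieckAbelian.{u} C]

open MorphismProperty ZeroObject in
/-- Functorial embeddings into injective objects. -/
theorem exists_functorial_injective :
    ∃ (N : C ⥤ C) (j : 𝟭 _ ⟶ N), ∀ M, Mono (j.app M) ∧ Injective (N.obj M) := by
  let d := functorialFactorizationData (monomorphisms C) (monomorphisms C).rlp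
  let T : C ⥤ Arrow C :=
    { obj K := Arrow.mk (0 : K ⟶ 0)
      map f := Arrow.homMk f (𝟙 _) (by simp) }
  refine ⟨T ⋙ d.Z,
    { app M := d.i.app (T.obj M)
      naturality M M' f := d.i.naturality (T.map f) }, fun M => ⟨d.hi (T.obj M), ?_⟩⟩
  have hp := d.hp (T.obj M)
  change Injective (d.Z.obj (T.obj M))
  rw [injective_iff_rlp_monomorphisms_zero]
  rw [(isZero_zero C).eq_of_tgt (d.p.app (T.obj M)) 0] at hp
  exact hp

/-- `Ext^q(X, -)` commutes with filtered colimits when `Hom(X, -)` does and colimits of injectives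
are acyclic for `X`. -/
theorem extOK_all (X : C) (h0 : ∀ D : Λ ⥤ C, ExtOK X D 0)
    (hv : ∀ D : Λ ⥤ C, (∀ i, Injective (D.obj i)) → ∀ q, Subsingleton (Ext X (colimit D) (q + 1))) :
    ∀ (q : ℕ) (D : Λ ⥤ C), ExtOK X D q
  | 0, D => h0 D
  | q + 1, D => by
    obtain ⟨N, j, hN⟩ := exists_functorial_injective (C := C)
    let α : D ⟶ D ⋙ N := Functor.whiskerLeft D j
    have : ∀ i, Mono (α.app i) := fun i => (hN (D.obj i)).1
    have : Mono α := NatTrans.mono_of_mono_app α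
    let S : ShortComplex (Λ ⥤ C) := ShortComplex.mk α (cokernel.π α) (cokernel.condition α)
    have hS : S.ShortExact := ShortComplex.ShortExact.mk'
      (ShortComplex.exact_of_g_is_cokernel _ (cokernelIsCokernel _))
      (inferInstanceAs (Mono α)) (inferInstanceAs (Epi (cokernel.π α)))
    have hc := hS.map_of_exact (colim : (Λ ⥤ C) ⥤ C)
    have hev : ∀ i, (S.map ((evaluation Λ C).obj i)).ShortExact := fun i =>
      hS.map_of_exact ((evaluation Λ C).obj i)
    let φ : ∀ i, S.map ((evaluation Λ C).obj i) ⟶ S.map colim := fun i =>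
      { τ₁ := colimit.ι D i
        τ₂ := colimit.ι (D ⋙ N) i
        τ₃ := colimit.ι S.X₃ i
        comm₁₂ := ι_colimMap α i
        comm₂₃ := ι_colimMap (cokernel.π α) i }
    let ψ : ∀ {i k : Λ} (r : i ⟶ k), S.map ((evaluation Λ C).obj i) ⟶ S.map ((evaluation Λ C).obj k) :=
      fun {i k} r =>
      { τ₁ := D.map r
        τ₂ := (D ⋙ N).map r
        τ₃ := S.X₃.map r
        comm₁₂ := α.naturality r
        comm₂₃ := (cokernel.π α).naturality r }
    have hq := extOK_all X h0 hv q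
    have pushφ : ∀ (i : Λ) (y : Ext X (S.X₃.obj i) q),
        (y.comp (hev i).extClass rfl).comp (Ext.mk₀ (colimit.ι D i)) (add_zero (q + 1)) =
          (y.comp (Ext.mk₀ (colimit.ι S.X₃ i)) (add_zero q)).comp hc.extClass rfl := fun i y =>
      push_extClass (hev i) hc (φ i) y
    have pushψ : ∀ {i k : Λ} (r : i ⟶ k) (y : Ext X (S.X₃.obj i) q),
        (y.comp (hev i).extClass rfl).comp (Ext.mk₀ (D.map r)) (add_zero (q + 1)) =
          (y.comp (Ext.mk₀ (S.X₃.map r)) (add_zero q)).comp (hev k).extClass rfl := fun {i k} r y =>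
      push_extClass (hev i) (hev k) (ψ r) y
    refine ⟨fun x => ?_, fun i y hy => ?_⟩
    · obtain ⟨(z : Ext X (colimit S.X₃) q), hz⟩ := Ext.covariant_sequence_exact₁ X hc x
        (@Subsingleton.elim _ (hv (D ⋙ N) (fun i => (hN _).2) q) _ _) rfl
      obtain ⟨i, w, hw⟩ := (hq S.X₃).1 z
      refine ⟨i, w.comp (hev i).extClass rfl, ?_⟩
      exact (pushφ i w).trans ((congrArg (fun t => Ext.comp t hc.extClass rfl) hw).trans hz)
    · have : Injective ((D ⋙ N).obj i) := (hN _).2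
      have := Ext.subsingleton_of_injective X ((D ⋙ N).obj i) q
      obtain ⟨(w : Ext X (S.X₃.obj i) q), hw⟩ := Ext.covariant_sequence_exact₁ X (hev i) y
        (Subsingleton.elim (α := Ext X ((D ⋙ N).obj i) (q + 1)) _ _) rfl
      subst hw
      obtain ⟨(z : Ext X (colimit (D ⋙ N)) q), hz⟩ := Ext.covariant_sequence_exact₃ X hc
        (w.comp (Ext.mk₀ (colimit.ι S.X₃ i)) (add_zero q)) rfl ((pushφ i w).symm.trans hy)
      obtain ⟨k, z', hz'⟩ := (hq (D ⋙ N)).1 z
      obtain ⟨l, s, hs⟩ := (hq S.X₃).stages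
        (w.comp (Ext.mk₀ (S.X₃.map (IsFiltered.leftToMax i k))) (add_zero q))
        ((z'.comp (Ext.mk₀ ((cokernel.π α).app k)) (add_zero q)).comp
          (Ext.mk₀ (S.X₃.map (IsFiltered.rightToMax i k))) (add_zero q)) (by
          rw [comp_mk₀_mk₀, comp_mk₀_mk₀, comp_mk₀_mk₀, colimit.w, colimit.w, ← ι_colimMap,
            ← comp_mk₀_mk₀, hz']
          exact hz.symm)
      refine ⟨l, IsFiltered.leftToMax i k ≫ s, (pushψ _ w).trans ?_⟩
      rw [comp_mk₀_mk₀, comp_mk₀_mk₀, comp_mk₀_mk₀, ← Functor.map_comp, ← Functor.map_comp,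
        ← (cokernel.π α).naturality, ← comp_mk₀_mk₀] at hs
      rw [hs]
      refine (Ext.comp_assoc_of_second_deg_zero _ _ _ _).trans ?_
      exact (congrArg (fun t => Ext.comp (z'.comp (Ext.mk₀ ((D ⋙ N).map
        (IsFiltered.rightToMax i k ≫ s))) (add_zero q)) t rfl) (hev l).comp_extClass).trans
        (Ext.comp_zero _ _ _ _ _)

end Grothendieck

end Groth.SitesTopoi.ExtColim
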