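import Groth.Agent.SitesTopoi.Coherent.SumIn
import Groth.Agent.SitesTopoi.Coherent.ExtColim
import Groth.Agent.SitesTopoi.Topos.FilteredHom
import Groth.Agent.SiteCohomology.PushTotallyAcyclic
import Groth.Agent.SiteCohomology.TotallyAcyclic
import Mathlib.CategoryTheory.Sites.Adjunction
import Mathlib.Algebra.Category.Grp.FilteredColimits

/-!
Cohomology of coherent objects and filtered colimits of acyclic sheaves.
-/

universe u

open CategoryTheory CategoryTheory.Limits Opposite ToposFin Simplicial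

set_option synthInstance.maxHeartbeats 400000
set_option maxHeartbeats 1000000

namespace Groth.SitesTopoi.Coherent

open Groth.SitesTopoi.Topos Groth.SiteCohomology CategoryTheory.Abelian

/-- Composition of sheaves with a functor commutes with colimits when sheafification does. -/
lemma preservesColimitsOfShape_sheafCompose {C : Type u} [SmallCategory C] (J : GrothendieckTopology C)
    {A B : Type (u + 1)} [Category.{u} A] [Category.{u} B] (F : A ⥤ B) [HasSheafify J A]
    [HasSheafify J B] [J.HasSheafCompose F] [J.PreservesSheafification F] (K : Type u) [SmallCategory K]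
    [HasColimitsOfShape K A] [HasColimitsOfShape K B] [PreservesColimitsOfShape K F] :
    PreservesColimitsOfShape K (sheafCompose J F) where
  preservesColimit {D} := by
    let G₁ := presheafToSheaf J A
    let D' := D ⋙ sheafToPresheaf J A
    let E := colimit.cocone D'
    have hE : IsColimit E := colimit.isColimit D'
    have e := sheafComposeNatIso J F (sheafificationAdjunction J A) (sheafificationAdjunction J B)
    have := (sheafificationAdjunction J A).leftAdjoint_preservesColimits.{u, u}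
    have := (sheafificationAdjunction J B).leftAdjoint_preservesColimits.{u, u}
    have h1 : PreservesColimit D' (G₁ ⋙ sheafCompose J F) := preservesColimit_of_natIso D' e
    have h2 : PreservesColimit (D' ⋙ G₁) (sheafCompose J F) :=
      preservesColimit_of_preserves_colimit_cocone (isColimitOfPreserves G₁ hE)
        (isColimitOfPreserves (G₁ ⋙ sheafCompose J F) hE)
    haveI : PreservesColimit (D ⋙ sheafToPresheaf J A ⋙ presheafToSheaf J A) (sheafCompose J F) := h2
    exact preservesColimit_of_iso_diagram (sheafCompose J F)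
      (Functor.isoWhiskerLeft D (asIso (sheafificationAdjunction J A).counit) : D' ⋙ G₁ ≅ D)

variable {C : Type u} [SmallCategory C] {J : GrothendieckTopology C}
  {Λ : Type u} [SmallCategory Λ] [IsFiltered Λ] (D : Λ ⥤ Sheaf J AddCommGrpCat.{u})

/-- The forgetful image of the colimit cocone is a colimit. -/
noncomputable def isColimitForget :
    IsColimit ((sheafCompose J (forget AddCommGrpCat.{u})).mapCocone (colimit.cocone D)) :=
  haveI := preservesColimitsOfShape_sheafCompose J (forget AddCommGrpCat.{u}) Λ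
  isColimitOfPreserves _ (colimit.isColimit D)

/-- Maps out of the free sheaf on a coherent object into a filtered colimit come from a stage. -/
lemma exists_hom_stage {P : Tp J → Prop} (hgen : GenBy J P) (hP : ∀ K, P K → IsQC K) {W : Tp J}
    (hW : IsCoherent W) (φ : (freeT J).obj W ⟶ colimit D) :
    ∃ (i : Λ) (a : (freeT J).obj W ⟶ D.obj i), a ≫ colimit.ι D i = φ := by
  obtain ⟨i, ψ, hψ⟩ := exists_factor_of_isCoherent hgen hP (isColimitForget D) hW
    ((freeTAdj J).homEquiv W (colimit D) φ)
  refine ⟨i, ((freeTAdj J).homEquiv W (D.obj i)).symm ψ, ?_⟩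
  rw [← Adjunction.homEquiv_naturality_right_symm]
  exact (Equiv.symm_apply_eq _).2 hψ

/-- Maps out of the free sheaf on a quasi-compact object agreeing in the colimit agree at a stage. -/
lemma exists_hom_eq {W : Tp J} (hW : IsQC W) {i : Λ} (a b : (freeT J).obj W ⟶ D.obj i)
    (h : a ≫ colimit.ι D i = b ≫ colimit.ι D i) :
    ∃ (j : Λ) (r : i ⟶ j), a ≫ D.map r = b ≫ D.map r := by
  let e := fun k => (freeTAdj J).homEquiv W (D.obj k)
  have h' : e i a ≫ (sheafCompose J (forget AddCommGrpCat.{u})).map (colimit.ι D i) =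
      e i b ≫ (sheafCompose J (forget AddCommGrpCat.{u})).map (colimit.ι D i) := by
    rw [← Adjunction.homEquiv_naturality_right, ← Adjunction.homEquiv_naturality_right, h]
  obtain ⟨j, r, hr⟩ := exists_comp_eq_of_isQC (isColimitForget D) hW (e i a) (e i b) h'
  refine ⟨j, r, (e j).injective ?_⟩
  rw [Adjunction.homEquiv_naturality_right, Adjunction.homEquiv_naturality_right]
  exact hr

lemma extOK_zero_free {P : Tp J → Prop} (hgen : GenBy J P) (hP : ∀ K, P K → IsQC K) {W : Tp J}
    (hW : IsCoherent W) : ExtColim.ExtOK ((freeT J).obj W) D 0 :=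
  ExtColim.extOK_zero (exists_hom_stage D hgen hP hW) fun i a h => by
    obtain ⟨j, r, hr⟩ := exists_hom_eq D hW.1 a 0 (by rw [h, zero_comp])
    exact ⟨j, r, by rw [hr, zero_comp]⟩

omit [IsFiltered Λ] in
/-- Acyclicity passes to sums. -/
lemma subsingleton_ext_sumIn {S : Set (Tp J)} (F : Sheaf J AddCommGrpCat.{u}) {W : Tp J} (q : ℕ)
    (h : ∀ K ∈ S, Subsingleton (Ext ((freeT J).obj K) F q)) (hW : IsSumIn S W) :
    Subsingleton (Ext ((freeT J).obj W) F q) := by
  obtain ⟨ι, hι, G, π, hG, hπ⟩ := hW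
  obtain ⟨hc⟩ := hπ.nonempty_isColimit
  have := (freeTAdj J).leftAdjoint_preservesColimits.{u, u}
  have : ∀ i, Subsingleton (Ext ((freeT J).obj (G i)) F q) := fun i => h _ (hG i)
  exact (bijective_ext_coproduct (isColimitCofanMkObjOfIsColimit (freeT J) _ π hc) F q).1.subsingleton

variable {S : Set (Tp J)} (hqc : ∀ K ∈ S, IsQC K) (hgen : GenBy J (fun K => K ∈ S))
  (hpb : ClosedUnderPullbacks S)
include hqc hgen hpb

omit [IsFiltered Λ] in
/-- A class on a member of `S` dies on a sum mapping epimorphically to it. -/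
lemma exists_sumIn_comp_eq_zero (p : ℕ) (F : Sheaf J AddCommGrpCat.{u}) {K : Tp J} (hK : K ∈ S)
    (ξ : Ext ((freeT J).obj K) F (p + 1)) :
    ∃ (K' : Tp J) (f : K' ⟶ K), Epi f ∧ IsSumIn S K' ∧
      (Ext.mk₀ ((freeT J).map f)).comp ξ (zero_add (p + 1)) = 0 := by
  obtain ⟨K'', g, hg, hξ⟩ := exists_epi_comp_eq_zero p F K ξ
  obtain ⟨ι, G, π, hG, hπ⟩ := hgen K''
  have hcov : Covers (fun i => π i ≫ g) :=
    (((covers_single_iff g).2 hg).comp (fun _ => π) (fun _ => hπ)).of_factor (fun p => p.2)
      (fun p => 𝟙 _) (fun p => Category.id_comp _)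
  obtain ⟨s, hs⟩ := finite_subcover (hqc K hK) hcov
  refine ⟨∐ fun i : s => G i, Sigma.desc fun i : s => π i ≫ g, covers_iff_epi_desc.1 hs,
    isSumIn_sigma _ (fun i => hG i), ?_⟩
  have e : (Sigma.desc fun i : s => π i ≫ g) = (Sigma.desc fun i : s => π i) ≫ g :=
    Sigma.hom_ext _ _ fun i => by simp
  rw [e, Functor.map_comp, ← Ext.mk₀_comp_mk₀, Ext.comp_assoc_of_second_deg_zero]
  exact (congrArg (fun t => (Ext.mk₀ ((freeT J).map (Sigma.desc fun i : s => π i))).comp t
    (zero_add (p + 1))) hξ).trans (Ext.comp_zero _ _ _ _ _)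

omit [IsFiltered Λ] in
/-- Cartan's criterion on the class `S`. -/
theorem subsingleton_ext_of_cech (F : Sheaf J AddCommGrpCat.{u})
    (h : ∀ (K K' : Tp J) (f : K' ⟶ K), K ∈ S → IsSumIn S K' → Epi f → ∀ p : ℕ,
      IsZero ((yonedaCofaceCx (freeT J) (Arrow.mk f).augmentedCechNerve F).homology (p + 1))) :
    ∀ (p : ℕ) (K : Tp J), K ∈ S → Subsingleton (Ext ((freeT J).obj K) F (p + 1)) := by
  intro p
  induction p using Nat.strong_induction_on with
  | _ p ih =>
    intro K hK
    refine subsingleton_of_forall_eq 0 fun ξ => ?_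
    obtain ⟨K', f, hf, hK', hξ⟩ := exists_sumIn_comp_eq_zero hqc hgen hpb p F hK ξ
    have hterm : ∀ n q : ℕ, q < p →
        Subsingleton (Ext ((freeT J).obj ((Arrow.mk f).augmentedCechNerve.left _⦋n⦌)) F (q + 1)) :=
      fun n q hq => subsingleton_ext_sumIn F (q + 1) (fun L hL => ih q hq L hL)
        (IsSumIn.widePullback_fin hpb hK f hK' n)
    refine eq_zero_of_isZero_homology (T := freeT J) (X := (Arrow.mk f).augmentedCechNerve) F
      (isAugResolution_cechNerve J f) p hterm (fun n q hq hn => hterm n q (by omega))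
      (h K K' f hK hK' hf p) ξ ?_
    let g : (Arrow.mk f).augmentedCechNerve.left _⦋0⦌ ⟶ K' :=
      WidePullback.π (fun _ : Fin 1 => f) 0
    have hg : (Arrow.mk f).augmentedCechNerve.hom.app (op ⦋0⦌) = g ≫ f :=
      (WidePullback.π_arrow (fun _ : Fin 1 => f) 0).symm
    have key : ∀ {P Q R : Sheaf J AddCommGrpCat.{u}} (a : P ⟶ Q) (b : Q ⟶ R)
        (x : Ext R F (p + 1)), (Ext.mk₀ b).comp x (zero_add _) = 0 → ∀ c : P ⟶ R, c = a ≫ b →
          (Ext.mk₀ c).comp x (zero_add _) = 0 := fun a b x hx c hc => by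
      rw [hc, ← Ext.mk₀_comp_mk₀, Ext.comp_assoc_of_second_deg_zero, hx, Ext.comp_zero]
    exact key ((freeT J).map g) ((freeT J).map f) ξ hξ _
      ((congrArg (freeT J).map hg).trans ((freeT J).map_comp g f))

/-- A filtered colimit of `S`-acyclic sheaves is `S`-acyclic. -/
theorem subsingleton_ext_colimit
    (hD : ∀ (i : Λ) (K : Tp J), K ∈ S → ∀ q : ℕ, Subsingleton (Ext ((freeT J).obj K) (D.obj i) (q + 1)))
    (p : ℕ) {K : Tp J} (hK : K ∈ S) : Subsingleton (Ext ((freeT J).obj K) (colimit D) (p + 1)) := by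
  refine subsingleton_ext_of_cech hqc hgen hpb (colimit D) ?_ p K hK
  clear hK K p
  intro K K' f hK hK' hf p
  let X := (Arrow.mk f).augmentedCechNerve
  have hW : ∀ n, IsSumIn S (X.left _⦋n⦌) := IsSumIn.widePullback_fin hpb hK f hK'
  let d : ∀ n, (freeT J).obj (X.left _⦋n + 1⦌) ⟶ (freeT J).obj (X.left _⦋n⦌) := fun n =>
    AlgebraicTopology.AlternatingFaceMapComplex.objD
      (((SimplicialObject.whiskering _ _).obj (freeT J)).obj X.left) n
  rw [← HomologicalComplex.exactAt_iff_isZero_homology,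
    (yonedaCofaceCx (freeT J) X (colimit D)).exactAt_iff' p (p + 1) (p + 2) (by simp) (by simp),
    ShortComplex.ab_exact_iff]
  intro (x : (freeT J).obj (X.left _⦋p + 1⦌) ⟶ colimit D) hx
  have hx' : d (p + 1) ≫ x = 0 := (yonedaCofaceCx_d (freeT J) X (colimit D) (p + 1) x).symm.trans hx
  obtain ⟨i, a, ha⟩ := exists_hom_stage D hgen hqc ((hW (p + 1)).isCoherent hqc hgen hpb) x
  subst ha
  obtain ⟨j, r, hr⟩ := exists_hom_eq D ((hW (p + 2)).isQC hqc) (d (p + 1) ≫ a) 0
    (by rw [Category.assoc, hx', zero_comp])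
  rw [zero_comp, Category.assoc] at hr
  have hL : IsZero ((yonedaCofaceCx (freeT J) X (D.obj j)).homology (p + 1)) := by
    obtain ⟨e⟩ := nonempty_yonedaCofaceCx_homology_equiv (T := freeT J) (D.obj j)
      (isAugResolution_cechNerve J f) (p + 1)
      (fun n q _ => subsingleton_ext_sumIn (D.obj j) (q + 1) (fun L hL => hD j L hL q) (hW n))
    have : Subsingleton (Ext ((freeT J).obj X.right) (D.obj j) (p + 1)) := hD j K hK p
    have : Subsingleton ((yonedaCofaceCx (freeT J) X (D.obj j)).homology (p + 1)) :=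
      @Equiv.subsingleton _ _ e.toEquiv this
    exact AddCommGrpCat.isZero_of_subsingleton _
  rw [← HomologicalComplex.exactAt_iff_isZero_homology,
    (yonedaCofaceCx (freeT J) X (D.obj j)).exactAt_iff' p (p + 1) (p + 2) (by simp) (by simp),
    ShortComplex.ab_exact_iff] at hL
  obtain ⟨y, hy⟩ := hL (a ≫ D.map r : (freeT J).obj (X.left _⦋p + 1⦌) ⟶ D.obj j)
    ((yonedaCofaceCx_d (freeT J) X (D.obj j) (p + 1) _).trans hr)
  have hy' : d p ≫ y = a ≫ D.map r := (yonedaCofaceCx_d (freeT J) X (D.obj j) p y).symm.trans hy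
  refine ⟨(y ≫ colimit.ι D j : (freeT J).obj (X.left _⦋p⦌) ⟶ colimit D),
    (yonedaCofaceCx_d (freeT J) X (colimit D) p _).trans ?_⟩
  exact (Category.assoc (d p) y (colimit.ι D j)).symm.trans ((congrArg (fun k => k ≫ colimit.ι D j) hy').trans
    (by rw [Category.assoc, colimit.w]))

/-- `H^q(K, -)` commutes with filtered colimits for `K` in `S`. -/
theorem extOK_free {K : Tp J} (hK : K ∈ S) (q : ℕ) : ExtColim.ExtOK ((freeT J).obj K) D q :=
  ExtColim.extOK_all ((freeT J).obj K)
    (fun D' => extOK_zero_free D' hgen hqc ⟨hqc K hK, isQS_of_mem hqc hgen hpb hK⟩)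
    (fun D' hI q => subsingleton_ext_colimit D' hqc hgen hpb (fun i L _ q =>
      have := hI i
      Ext.subsingleton_of_injective _ _ q) q hK)
    q D

end Groth.SitesTopoi.Coherent
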