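import Groth.Agent.SitesTopoi.Topos.Algebraic
import Groth.Agent.SitesTopoi.Topos.OpenClosed

/-!
Finite disjoint sums of members of a class of quasi-compact objects stable under fibre products.
-/

universe u

open CategoryTheory CategoryTheory.Limits Opposite ToposFin

namespace Groth.SitesTopoi.Topos

variable {C : Type u} [SmallCategory C] {J : GrothendieckTopology C}

/-- A disjoint cover makes its target the coproduct. -/
lemma IsDisjointCover.nonempty_isColimit {ι : Type u} {F : ι → Tp J} {X : Tp J} {π : ∀ i, F i ⟶ X}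
    (h : IsDisjointCover π) : Nonempty (IsColimit (Cofan.mk X π)) := by
  classical
  have key : ∀ s : Cofan F, ∃ ψ : X ⟶ s.pt, ∀ i, π i ≫ ψ = s.inj i := fun s =>
    h.covers.glue (fun i => s.inj i) fun i j U a b e => by
      by_cases hij : i = j
      · subst hij
        rw [h.inj i U a b e]
      · exact eq_of_bot_mem s.pt (h.disj i j hij U a b e) _ _
  choose ψ hψ using key
  exact ⟨mkCofanColimit _ (fun s => ψ s) (fun s i => hψ s i)
    fun s m hm => h.covers.ext fun i => (hm i).trans (hψ s i).symm⟩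

/-- `W` is a finite disjoint sum of members of `S`. -/
def IsSumIn (S : Set (Tp J)) (W : Tp J) : Prop :=
  ∃ (ι : Type u) (_ : Finite ι) (F : ι → Tp J) (π : ∀ i, F i ⟶ W), (∀ i, F i ∈ S) ∧ IsDisjointCover π

lemma isSumIn_of_mem {S : Set (Tp J)} {K : Tp J} (h : K ∈ S) : IsSumIn S K := by
  refine ⟨PUnit.{u + 1}, inferInstance, fun _ => K, fun _ => 𝟙 K, fun _ => h, ?_⟩
  exact { covers := (covers_single_iff (𝟙 K)).2 inferInstance
          inj := fun i U a b e => e
          disj := fun i j hij => absurd (Subsingleton.elim i j) hij }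

lemma isSumIn_sigma {S : Set (Tp J)} {ι : Type u} [Finite ι] (F : ι → Tp J) (h : ∀ i, F i ∈ S) :
    IsSumIn S (∐ F) :=
  ⟨ι, inferInstance, F, Sigma.ι F, h,
    isDisjointCover_of_isColimit_cofan (coproductIsCoproduct F)⟩

lemma IsSumIn.of_iso {S : Set (Tp J)} {W W' : Tp J} (e : W ≅ W') (h : IsSumIn S W) : IsSumIn S W' := by
  obtain ⟨ι, hι, F, π, hF, hπ⟩ := h
  refine ⟨ι, hι, F, fun i => π i ≫ e.hom, hF,
    { covers := hπ.covers.postcomp_iso e.hom, inj := fun i U a b w => ?_, disj := fun i j hij U a b w => ?_ }⟩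
  · refine hπ.inj i U a b ?_
    have := congrArg (ap e.inv) w
    simpa only [← ap_comp, Category.assoc, Iso.hom_inv_id, Category.comp_id] using this
  · refine hπ.disj i j hij U a b ?_
    have := congrArg (ap e.inv) w
    simpa only [← ap_comp, Category.assoc, Iso.hom_inv_id, Category.comp_id] using this

variable {S : Set (Tp J)}

lemma IsSumIn.isQC (hqc : ∀ K ∈ S, IsQC K) {W : Tp J} (h : IsSumIn S W) : IsQC W := by
  obtain ⟨ι, hι, F, π, hF, hπ⟩ := h
  exact isQC_of_finite_covers hπ.covers fun i => hqc _ (hF i)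

lemma IsSumIn.isCoherent (hqc : ∀ K ∈ S, IsQC K) (hgen : GenBy J (fun K => K ∈ S))
    (hpb : ClosedUnderPullbacks S) {W : Tp J} (h : IsSumIn S W) : IsCoherent W := by
  refine ⟨h.isQC hqc, ?_⟩
  obtain ⟨ι, hι, F, π, hF, hπ⟩ := h
  exact hπ.isQS fun i => isQS_of_mem hqc hgen hpb (hF i)

/-- Fibre products over a member of `S`. -/
lemma IsSumIn.pullback (hpb : ClosedUnderPullbacks S) {K W W' : Tp J} (hK : K ∈ S) (a : W ⟶ K)
    (b : W' ⟶ K) (hW : IsSumIn S W) (hW' : IsSumIn S W') : IsSumIn S (Limits.pullback a b) := by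
  obtain ⟨ι, hι, F, π, hF, hπ⟩ := hW
  obtain ⟨ι', hι', F', π', hF', hπ'⟩ := hW'
  choose P p q hP sq using fun ij : ι × ι' => hpb (π ij.1 ≫ a) (π' ij.2 ≫ b) (hF ij.1) (hF' ij.2) hK
  let e : ∀ ij : ι × ι', P ij ⟶ Limits.pullback a b := fun ij =>
    pullback.lift (p ij ≫ π ij.1) (q ij ≫ π' ij.2) (by simpa only [Category.assoc] using (sq ij).w)
  have hfst : ∀ (ij : ι × ι') {U : C} (z : (P ij).obj.obj (op U)),
      ap (pullback.fst a b) (ap (e ij) z) = ap (π ij.1) (ap (p ij) z) := fun ij U z => by
    rw [← ap_comp, ← ap_comp, pullback.lift_fst]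
  have hsnd : ∀ (ij : ι × ι') {U : C} (z : (P ij).obj.obj (op U)),
      ap (pullback.snd a b) (ap (e ij) z) = ap (π' ij.2) (ap (q ij) z) := fun ij U z => by
    rw [← ap_comp, ← ap_comp, pullback.lift_snd]
  refine ⟨ι × ι', inferInstance, P, e, hP,
    { covers := fun U z => ?_, inj := fun ij U x y w => ?_, disj := fun ij kl hne U x y w => ?_ }⟩
  · refine J.superset_covering ?_ (J.intersection_covering
      (hπ.covers U (ap (pullback.fst a b) z)) (hπ'.covers U (ap (pullback.snd a b) z)))
    rintro V g ⟨⟨i, s, hs⟩, ⟨j, t, ht⟩⟩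
    obtain ⟨r, hr₁, hr₂⟩ := pb_sec_lift (sq (i, j)) s t (by
      rw [ap_comp, ap_comp, hs, ht, ap_rs, ap_rs, ← ap_comp, ← ap_comp, pullback.condition])
    refine ⟨(i, j), r, pb_sec_ext (IsPullback.of_hasPullback a b) ?_ ?_⟩
    · rw [hfst, hr₁, hs, ap_rs]
    · rw [hsnd, hr₂, ht, ap_rs]
  · refine pb_sec_ext (sq ij) (hπ.inj _ U _ _ ?_) (hπ'.inj _ U _ _ ?_)
    · rw [← hfst, ← hfst, w]
    · rw [← hsnd, ← hsnd, w]
  · by_cases h₁ : ij.1 = kl.1
    · exact hπ'.disj _ _ (fun h₂ => hne (Prod.ext h₁ h₂)) U (ap (q ij) x) (ap (q kl) y)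
        (by rw [← hsnd, ← hsnd, w])
    · exact hπ.disj _ _ h₁ U (ap (p ij) x) (ap (p kl) y) (by rw [← hfst, ← hfst, w])

/-- Wide fibre products over a member of `S` of a sum are sums. -/
lemma IsSumIn.widePullback_fin (hpb : ClosedUnderPullbacks S) {K W : Tp J} (hK : K ∈ S) (f : W ⟶ K)
    (hW : IsSumIn S W) : ∀ n : ℕ, IsSumIn S (widePullback.{0} K (fun _ : Fin (n + 1) => W) (fun _ => f))
  | 0 => by
    let π₀ := WidePullback.π (fun _ : Fin 1 => f) 0
    let d : W ⟶ widePullback.{0} K (fun _ : Fin 1 => W) (fun _ => f) :=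
      WidePullback.lift f (fun _ => 𝟙 W) (fun _ => Category.id_comp f)
    have hd : d ≫ π₀ = 𝟙 W := WidePullback.lift_π ..
    have hdb : d ≫ WidePullback.base (fun _ : Fin 1 => f) = f := WidePullback.lift_base ..
    refine IsSumIn.of_iso { hom := d, inv := π₀, hom_inv_id := hd, inv_hom_id := ?_ } hW
    refine WidePullback.hom_ext _ _ _ (fun i => ?_) ?_
    · obtain rfl : i = (0 : Fin 1) := Fin.eq_zero i
      rw [Category.assoc, Category.id_comp]
      exact (congrArg (fun k => π₀ ≫ k) hd).trans (Category.comp_id _)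
    · rw [Category.assoc, Category.id_comp]
      exact (congrArg (fun k => π₀ ≫ k) hdb).trans (WidePullback.π_arrow (fun _ : Fin 1 => f) 0)
  | n + 1 => by
    let b := WidePullback.base fun _ : Fin (n + 1) => f
    let b' := WidePullback.base fun _ : Fin (n + 2) => f
    let π := WidePullback.π fun _ : Fin (n + 1) => f
    let π' := WidePullback.π fun _ : Fin (n + 2) => f
    let t : widePullback.{0} K (fun _ : Fin (n + 2) => W) (fun _ => f) ⟶
        widePullback.{0} K (fun _ : Fin (n + 1) => W) (fun _ => f) :=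
      WidePullback.lift b' (fun i => π' i.succ)
        (fun i => WidePullback.π_arrow (fun _ : Fin (n + 2) => f) i.succ)
    have htπ : ∀ i, t ≫ π i = π' i.succ := fun i => WidePullback.lift_π ..
    have htb : t ≫ b = b' := WidePullback.lift_base ..
    let inv := pullback.lift t (π' 0) (htb.trans (WidePullback.π_arrow (fun _ : Fin (n + 2) => f) 0).symm)
    let hom : Limits.pullback b f ⟶ widePullback.{0} K (fun _ : Fin (n + 2) => W) (fun _ => f) :=
      WidePullback.lift (pullback.snd b f ≫ f)
        (Fin.cases (pullback.snd b f) fun i => pullback.fst b f ≫ π i) (fun i => by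
          refine Fin.cases ?_ (fun i => ?_) i
          · rfl
          · show (pullback.fst b f ≫ π i) ≫ f = pullback.snd b f ≫ f
            rw [Category.assoc, ← pullback.condition]
            exact congrArg _ (WidePullback.π_arrow (fun _ : Fin (n + 1) => f) i))
    have h0 : hom ≫ π' 0 = pullback.snd b f := WidePullback.lift_π ..
    have hs : ∀ i, hom ≫ π' i.succ = pullback.fst b f ≫ π i := fun i => WidePullback.lift_π ..
    have hb : hom ≫ b' = pullback.snd b f ≫ f := WidePullback.lift_base ..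
    have i1 : inv ≫ pullback.fst b f = t := pullback.lift_fst _ _ _
    have i2 : inv ≫ pullback.snd b f = π' 0 := pullback.lift_snd _ _ _
    refine IsSumIn.of_iso { hom := hom, inv := inv, hom_inv_id := ?_, inv_hom_id := ?_ }
      (IsSumIn.pullback hpb hK b f (IsSumIn.widePullback_fin hpb hK f hW n) hW)
    · refine pullback.hom_ext (WidePullback.hom_ext _ _ _ (fun i => ?_) ?_) ?_
      · rw [Category.assoc hom inv, i1, Category.id_comp, Category.assoc]
        exact (congrArg (fun k => hom ≫ k) (htπ i)).trans (hs i)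
      · rw [Category.assoc hom inv, i1, Category.id_comp, Category.assoc]
        exact (congrArg (fun k => hom ≫ k) htb).trans (hb.trans pullback.condition.symm)
      · rw [Category.assoc, i2, Category.id_comp, h0]
    · refine WidePullback.hom_ext _ _ _ (fun i => ?_) ?_
      · rw [Category.assoc, Category.id_comp]
        refine Fin.cases ?_ (fun i => ?_) i
        · exact (congrArg (fun k => inv ≫ k) h0).trans i2
        · exact ((congrArg (fun k => inv ≫ k) (hs i)).trans (Category.assoc _ _ _).symm).trans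
            ((congrArg (fun k => k ≫ π i) i1).trans (htπ i))
      · rw [Category.assoc, Category.id_comp]
        exact ((congrArg (fun k => inv ≫ k) hb).trans (Category.assoc _ _ _).symm).trans
          ((congrArg (fun k => k ≫ f) i2).trans (WidePullback.π_arrow (fun _ : Fin (n + 2) => f) 0))

end Groth.SitesTopoi.Topos
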